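import Cfsg.Agent.Lib.PGroups.Frattini
import Mathlib.GroupTheory.Nilpotent
import Mathlib.GroupTheory.Commutator.Basic

/-!
# A large abelian subgroup from an element with a long Jordan block

Let `a` be abelian and centralised by `x`, let `B` be normalised by both with `W ≤ Z(B)`, `B / W`
abelian and centralised by `a`, and suppose that some `u ∈ B` has `[x, ..., x, u] ∉ W` with `n - 1`
entries `x` while `n` entries always land in `W`.  If `2 e + 3 ≤ n` there is an abelian subgroup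
of order at least `|a| p ^ (e + 1)`.
-/

set_option autoImplicit false
set_option linter.unusedSectionVars false

namespace Cfsg.Agent.Lib.LA5.JOffender

open Subgroup
open scoped commutatorElement

variable {G : Type*} [Group G]

/-- The commutator with `x`. -/
def T (x b : G) : G := x * b * x⁻¹ * b⁻¹

theorem T_eq (x b : G) : T x b = ⁅x, b⁆ := rfl

theorem conj_T (x b : G) : x * T x b * x⁻¹ = T x (x * b * x⁻¹) := by unfold T; group

theorem conj_T_inv (x b : G) : x⁻¹ * T x b * x = T x (x⁻¹ * b * x) := by unfold T; group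

theorem conj_iterate_inv (x b : G) : ∀ k : ℕ, x⁻¹ * (T x)^[k] b * x = (T x)^[k] (x⁻¹ * b * x)
  | 0 => rfl
  | k + 1 => by
    rw [Function.iterate_succ_apply', Function.iterate_succ_apply', conj_T_inv, conj_iterate_inv x b k]

theorem iterate_mem {B : Subgroup G} {x b : G} (hx : x ∈ normalizer (B : Set G)) (hb : b ∈ B) :
    ∀ k : ℕ, (T x)^[k] b ∈ B
  | 0 => hb
  | k + 1 => by
    rw [Function.iterate_succ_apply']
    have := iterate_mem hx hb k
    exact B.mul_mem ((mem_normalizer_iff.1 hx _).1 this) (B.inv_mem this)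

theorem iterate_eq_one_of_fixed {x b : G} (h : x * b * x⁻¹ = b) : ∀ {k : ℕ}, 1 ≤ k → (T x)^[k] b = 1
  | k + 1, _ => by
    rw [Function.iterate_succ_apply]
    have h1 : T x b = 1 := by rw [T, h, mul_inv_cancel]
    rw [h1]
    clear h1
    induction k with
    | zero => rfl
    | succ k ih => rw [Function.iterate_succ_apply, show T x 1 = 1 by simp [T], ih (by omega)]

theorem T_one (x : G) : T x 1 = 1 := by simp [T]

theorem iterate_one (x : G) : ∀ k : ℕ, (T x)^[k] 1 = 1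
  | 0 => rfl
  | k + 1 => by rw [Function.iterate_succ_apply, T_one, iterate_one x k]

theorem iterate_eq_one_of_le {x b : G} {j k : ℕ} (h : (T x)^[j] b = 1) (hjk : j ≤ k) :
    (T x)^[k] b = 1 := by
  obtain ⟨i, rfl⟩ := Nat.exists_eq_add_of_le hjk
  rw [add_comm, Function.iterate_add_apply, h, iterate_one]

/-- In a `p`-group the iterated commutator with a fixed element reaches `1`. -/
theorem exists_iterate_eq_one [Finite G] {p : ℕ} [Fact p.Prime] {S : Subgroup G} (hS : IsPGroup p S)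
    {x b : G} (hx : x ∈ S) (hb : b ∈ S) : ∃ N : ℕ, (T x)^[N] b = 1 := by
  obtain ⟨N, hN⟩ := (Subgroup.isNilpotent_iff_lowerCentralSeries S).1 hS.isNilpotent
  refine ⟨N, ?_⟩
  suffices h : ∀ k : ℕ, (T x)^[k] b ∈ S.lowerCentralSeries k by
    have := h N
    rwa [hN, mem_bot] at this
  intro k
  induction k with
  | zero => exact hb
  | succ k ih =>
    rw [Function.iterate_succ_apply', T_eq, Subgroup.lowerCentralSeries_succ, Subgroup.commutator_comm]
    exact Subgroup.commutator_mem_commutator hx ih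

/-- `T` on an abelian invariant subgroup. -/
theorem T_mul_of_comm {V : Subgroup G} {x b c : G} (hx : x ∈ normalizer (V : Set G))
    (hV : ∀ v ∈ V, ∀ w ∈ V, v * w = w * v) (hb : b ∈ V) (hc : c ∈ V) : T x (b * c) = T x b * T x c := by
  have h1 : T x c ∈ V := iterate_mem hx hc 1
  calc T x (b * c) = x * b * x⁻¹ * (T x c * b⁻¹) := by unfold T; group
    _ = _ := by rw [hV _ h1 _ (V.inv_mem hb)]; unfold T; group

/-- `T ^ t` carries an abelian `p`-group into an invariant subgroup of index dividing `p ^ t`. -/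
theorem iterate_mem_of_index [Finite G] {p : ℕ} [hp : Fact p.Prime] {S : Subgroup G} (hS : IsPGroup p S)
    {x : G} (hxS : x ∈ S) {V : Subgroup G} (hVS : V ≤ S) (hxV : x ∈ normalizer (V : Set G))
    (hV : ∀ v ∈ V, ∀ w ∈ V, v * w = w * v) :
    ∀ (t : ℕ) (F : Subgroup G), F ≤ V → x ∈ normalizer (F : Set G) → F.relIndex V ∣ p ^ t →
      ∀ v ∈ V, (T x)^[t] v ∈ F := by
  intro t
  induction t with
  | zero =>
    intro F _ _ h v hv
    rw [pow_zero, Nat.dvd_one, relIndex_eq_one] at h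
    exact h hv
  | succ t ih =>
    intro F hFV hxF hidx v hv
    by_cases hle : V ≤ F
    · exact hle (iterate_mem hxV hv _)
    let F₁ : Subgroup G :=
      { carrier := {w | w ∈ V ∧ T x w ∈ F}
        mul_mem' := fun {b c} hb hc => ⟨V.mul_mem hb.1 hc.1, by
          rw [T_mul_of_comm hxV hV hb.1 hc.1]; exact F.mul_mem hb.2 hc.2⟩
        one_mem' := ⟨V.one_mem, by rw [T_one]; exact F.one_mem⟩
        inv_mem' := fun {b} hb => ⟨V.inv_mem hb.1, by
          have h1 := T_mul_of_comm hxV hV hb.1 (V.inv_mem hb.1)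
          rw [mul_inv_cancel, T_one] at h1
          rw [← inv_eq_of_mul_eq_one_right h1.symm]; exact F.inv_mem hb.2⟩ }
    have hFF₁ : F ≤ F₁ := fun f hf => ⟨hFV hf, iterate_mem hxF hf 1⟩
    have hF₁V : F₁ ≤ V := fun w hw => hw.1
    have hxF₁ : x ∈ normalizer (F₁ : Set G) := mem_normalizer_fintype fun w hw => ⟨(mem_normalizer_iff.1 hxV w).1 hw.1, by
        rw [← conj_T]; exact (mem_normalizer_iff.1 hxF _).1 hw.2⟩
    have hne : ¬ F₁ ≤ F := by
      intro hF₁
      obtain ⟨w, hw, hwF⟩ := SetLike.not_le_iff_exists.1 hle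
      obtain ⟨N, hN⟩ := exists_iterate_eq_one hS hxS (hVS hw)
      suffices ∀ k : ℕ, (T x)^[k] w ∉ F by exact this N (hN ▸ F.one_mem)
      intro k
      induction k with
      | zero => exact hwF
      | succ k ihk => exact fun hk => ihk (hF₁ ⟨iterate_mem hxV hw k, by
          rwa [← Function.iterate_succ_apply' (T x)]⟩)
    have h1 := relIndex_mul_relIndex F F₁ V hFF₁ hF₁V
    obtain ⟨i, hi, hie⟩ := (Nat.dvd_prime_pow hp.out).1 ((Dvd.intro _ h1).trans hidx)
    have hi0 : i ≠ 0 := fun h => hne (relIndex_eq_one.1 (by rw [hie, h, pow_zero]))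
    have hidx' : F₁.relIndex V ∣ p ^ t := by
      rw [← h1, hie] at hidx
      obtain ⟨j, rfl⟩ := Nat.exists_eq_add_of_le (Nat.one_le_iff_ne_zero.2 hi0)
      rw [pow_add, pow_one, mul_assoc, pow_succ', Nat.mul_dvd_mul_iff_left hp.out.pos] at hidx
      exact (Dvd.intro_left _ rfl).trans hidx
    have := ih F₁ hF₁V hxF₁ hidx' v hv
    rw [Function.iterate_succ_apply']
    exact this.2

/-- `|H| |K| ≤ |H ⊔ K| |H ⊓ K|`. -/
theorem card_mul_relIndex_le [Finite G] (H K : Subgroup G) :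
    Nat.card H * (H ⊓ K).relIndex K ≤ Nat.card (H ⊔ K : Subgroup G) := by
  have h1 := relIndex_mul_relIndex (⊥ : Subgroup G) H (H ⊔ K) bot_le le_sup_left
  rw [relIndex_bot_left, relIndex_bot_left] at h1
  rw [← h1, inf_relIndex_right]
  refine Nat.mul_le_mul_left _ ?_
  exact relIndex_le_of_le_right le_sup_right (by
    intro h; rw [h, mul_zero] at h1; exact Nat.card_pos.ne' h1.symm)

theorem closure_isMulCommutative {s : Set G} (h : ∀ a ∈ s, ∀ b ∈ s, a * b = b * a) :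
    IsMulCommutative (closure s) := Subgroup.isMulCommutative_closure h

section Main

variable [Finite G] {p : ℕ} [hp : Fact p.Prime] {S B W a : Subgroup G} {x : G}

/-- The data of the theorem. -/
structure Setup (p : ℕ) (S B W a : Subgroup G) (x : G) (n : ℕ) : Prop where
  pgroup : IsPGroup p S
  B_le : B ≤ S
  a_le : a ≤ S
  x_mem : x ∈ S
  W_le : W ≤ B
  central : ∀ w ∈ W, ∀ b ∈ B, w * b = b * w
  comm_B : ∀ b ∈ B, ∀ c ∈ B, ⁅b, c⁆ ∈ W
  comm_a : ∀ h ∈ a, ∀ k ∈ a, h * k = k * h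
  x_a : ∀ h ∈ a, x * h = h * x
  a_B : ∀ h ∈ a, ∀ b ∈ B, ⁅h, b⁆ ∈ W
  x_B : x ∈ normalizer (B : Set G)
  x_W : x ∈ normalizer (W : Set G)
  T_n : ∀ b ∈ B, (T x)^[n] b ∈ W

variable {n : ℕ} (s : Setup p S B W a x n)
include s

theorem Setup.comm_W : ∀ v ∈ W, ∀ w ∈ W, v * w = w * v := fun v hv w hw => s.central v hv w (s.W_le hw)

theorem Setup.conj_a {h b : G} (hh : h ∈ a) (hb : b ∈ B) : h * b * h⁻¹ = ⁅h, b⁆ * b := by
  rw [commutatorElement_def]; group

theorem Setup.x_fix {h : G} (hh : h ∈ a) : x * h * x⁻¹ = h := by rw [s.x_a h hh, mul_inv_cancel_right]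

/-- `T [h, b] = [h, T b]`. -/
theorem Setup.T_comm {h b : G} (hh : h ∈ a) (hb : b ∈ B) : T x ⁅h, b⁆ = ⁅h, T x b⁆ := by
  have h1 : T x b ∈ B := iterate_mem s.x_B hb 1
  have e1 : x * ⁅h, b⁆ * x⁻¹ = ⁅h, x * b * x⁻¹⁆ := by
    have := s.x_fix hh
    calc x * ⁅h, b⁆ * x⁻¹ = ⁅x * h * x⁻¹, x * b * x⁻¹⁆ := conjugate_commutatorElement h b x
      _ = _ := by rw [this]
  have e2 : ⁅h, x * b * x⁻¹⁆ = ⁅h, T x b⁆ * ⁅h, b⁆ := by
    rw [show x * b * x⁻¹ = T x b * b by unfold T; group,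
      show ⁅h, T x b * b⁆ = ⁅h, T x b⁆ * (T x b * ⁅h, b⁆ * (T x b)⁻¹) by
        simp only [commutatorElement_def]; group,
      ← s.central _ (s.a_B h hh b hb) _ h1, mul_inv_cancel_right]
  rw [T, e1, e2, mul_inv_cancel_right]

theorem Setup.iterate_comm {h b : G} (hh : h ∈ a) (hb : b ∈ B) (k : ℕ) :
    (T x)^[k] ⁅h, b⁆ = ⁅h, (T x)^[k] b⁆ := by
  induction k with
  | zero => rfl
  | succ k ih =>
    rw [Function.iterate_succ_apply', Function.iterate_succ_apply', ih,
      s.T_comm hh (iterate_mem s.x_B hb k)]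

/-- The symmetry `[k, [h, b]] = [h, [k, b]]`. -/
theorem Setup.symm {h k b : G} (hh : h ∈ a) (hk : k ∈ a) (hb : b ∈ B) :
    ⁅k, ⁅h, b⁆⁆ = ⁅h, ⁅k, b⁆⁆ := by
  have hkb : ⁅k, b⁆ ∈ B := s.W_le (s.a_B k hk b hb)
  have hhk : k * h * k⁻¹ = h := by rw [s.comm_a k hk h hh, mul_inv_cancel_right]
  have e1 : k * ⁅h, b⁆ * k⁻¹ = ⁅h, ⁅k, b⁆ * b⁆ := by
    calc k * ⁅h, b⁆ * k⁻¹ = ⁅k * h * k⁻¹, k * b * k⁻¹⁆ := conjugate_commutatorElement h b k
      _ = _ := by rw [hhk, s.conj_a hk hb]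
  rw [commutatorElement_def k, e1,
    show ⁅h, ⁅k, b⁆ * b⁆ = ⁅h, ⁅k, b⁆⁆ * (⁅k, b⁆ * ⁅h, b⁆ * ⁅k, b⁆⁻¹) by
      simp only [commutatorElement_def]; group,
    ← s.central _ (s.a_B h hh b hb) _ hkb, mul_inv_cancel_right, mul_inv_cancel_right]

/-- Commutators of `B` are fixed by `a`. -/
theorem Setup.comm_fixed {b c : G} (hb : b ∈ B) (hc : c ∈ B) : ⁅b, c⁆ ∈ W ⊓ centralizer (a : Set G) := by
  refine ⟨s.comm_B b hb c hc, mem_centralizer_iff.2 fun h hh => ?_⟩
  have hb' := s.a_B h hh b hb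
  have hc' := s.a_B h hh c hc
  have e : h * ⁅b, c⁆ * h⁻¹ = ⁅b, c⁆ := by
    calc h * ⁅b, c⁆ * h⁻¹ = ⁅h * b * h⁻¹, h * c * h⁻¹⁆ := conjugate_commutatorElement b c h
      _ = ⁅⁅h, b⁆ * b, ⁅h, c⁆ * c⁆ := by rw [s.conj_a hh hb, s.conj_a hh hc]
      _ = ⁅b, c⁆ := by
        set v := ⁅h, b⁆
        set w := ⁅h, c⁆
        have e1 : ⁅v * b, w * c⁆ = v * ⁅b, w * c⁆ * v⁻¹ * ⁅v, w * c⁆ := by
          simp only [commutatorElement_def]; group
        rw [e1, commutatorElement_eq_one_iff_mul_comm.2 (s.central v hb' _ (B.mul_mem (s.W_le hc') hc)),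
          mul_one, s.central v hb' _ (s.W_le (s.comm_B b hb _ (B.mul_mem (s.W_le hc') hc))),
          mul_inv_cancel_right,
          show ⁅b, w * c⁆ = ⁅b, w⁆ * (w * ⁅b, c⁆ * w⁻¹) by simp only [commutatorElement_def]; group,
          commutatorElement_eq_one_iff_mul_comm.2 (s.central w hc' b hb).symm, one_mul,
          s.central w hc' _ (s.W_le (s.comm_B b hb c hc)), mul_inv_cancel_right]
  exact mul_inv_eq_iff_eq_mul.1 e

/-- `[T b, c] = T [b, c'] [b, T c']⁻¹` with `c' = x⁻¹ c x`. -/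
theorem Setup.comm_T {b c : G} (hb : b ∈ B) (hc : c ∈ B) :
    ⁅T x b, c⁆ = T x ⁅b, x⁻¹ * c * x⁆ * ⁅b, T x (x⁻¹ * c * x)⁆⁻¹ := by
  set c' := x⁻¹ * c * x with hc'
  have hc'B : c' ∈ B := by
    have := (mem_normalizer_iff.1 (inv_mem s.x_B) c).1 hc
    rwa [inv_inv] at this
  have hxb : x * b * x⁻¹ ∈ B := (mem_normalizer_iff.1 s.x_B b).1 hb
  have e1 : ⁅x * b * x⁻¹, c⁆ = x * ⁅b, c'⁆ * x⁻¹ := by
    rw [conjugate_commutatorElement, hc', show x * (x⁻¹ * c * x) * x⁻¹ = c by group]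
  have e2 : ⁅x * b * x⁻¹ * b⁻¹, c⁆ = ⁅x * b * x⁻¹, c⁆ * ⁅b, c⁆⁻¹ := by
    rw [show ⁅x * b * x⁻¹ * b⁻¹, c⁆ = x * b * x⁻¹ * ⁅b⁻¹, c⁆ * (x * b * x⁻¹)⁻¹ * ⁅x * b * x⁻¹, c⁆ by
      simp only [commutatorElement_def]; group,
      ← s.central _ (s.comm_B _ (B.inv_mem hb) c hc) _ hxb, mul_inv_cancel_right,
      show ⁅b⁻¹, c⁆ = b⁻¹ * ⁅b, c⁆⁻¹ * b by simp only [commutatorElement_def]; group,
      ← s.central _ (W.inv_mem (s.comm_B b hb c hc)) _ (B.inv_mem hb), inv_mul_cancel_right,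
      s.comm_W _ (W.inv_mem (s.comm_B b hb c hc)) _ (s.comm_B _ hxb c hc)]
  have e3 : ⁅b, c⁆ = ⁅b, T x c'⁆ * ⁅b, c'⁆ := by
    have hT : T x c' ∈ B := iterate_mem s.x_B hc'B 1
    conv_lhs => rw [show c = T x c' * c' by simp only [T, hc']; group]
    rw [show ⁅b, T x c' * c'⁆ = ⁅b, T x c'⁆ * (T x c' * ⁅b, c'⁆ * (T x c')⁻¹) by
        simp only [commutatorElement_def]; group,
      ← s.central _ (s.comm_B b hb c' hc'B) _ hT, mul_inv_cancel_right]
  show ⁅x * b * x⁻¹ * b⁻¹, c⁆ = _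
  rw [e2, e1, e3, mul_inv_rev]
  simp only [T, mul_assoc]

theorem Setup.T_mul_W {v w : G} (hv : v ∈ W) (hw : w ∈ W) : T x (v * w) = T x v * T x w :=
  T_mul_of_comm s.x_W s.comm_W hv hw

theorem Setup.iterate_mul_W {v w : G} (hv : v ∈ W) (hw : w ∈ W) (k : ℕ) :
    (T x)^[k] (v * w) = (T x)^[k] v * (T x)^[k] w := by
  induction k with
  | zero => rfl
  | succ k ih =>
    rw [Function.iterate_succ_apply', Function.iterate_succ_apply', Function.iterate_succ_apply',
      ih, s.T_mul_W (iterate_mem s.x_W hv k) (iterate_mem s.x_W hw k)]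

theorem Setup.iterate_inv_W {v : G} (hv : v ∈ W) (k : ℕ) : (T x)^[k] v⁻¹ = ((T x)^[k] v)⁻¹ := by
  refine (inv_eq_of_mul_eq_one_right ?_).symm
  rw [← s.iterate_mul_W hv (W.inv_mem hv), mul_inv_cancel, iterate_one]

/-- Isotropy: `T ^ r [T ^ i b, T ^ j c] = 1` when `n + t ≤ i + j + r`. -/
theorem Setup.isotropic {t : ℕ}
    (ht : ∀ w ∈ W ⊓ centralizer (a : Set G), (T x)^[t + 1] w = 1) :
    ∀ (i j r : ℕ), n + t ≤ i + j + r → ∀ b ∈ B, ∀ c ∈ B,
      (T x)^[r] ⁅(T x)^[i] b, (T x)^[j] c⁆ = 1 := by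
  intro i
  induction i with
  | zero =>
    intro j r hle b hb c hc
    by_cases hj : n ≤ j
    · have hW : (T x)^[j] c ∈ W := by
        obtain ⟨k, rfl⟩ := Nat.exists_eq_add_of_le hj
        rw [add_comm, Function.iterate_add_apply]
        exact iterate_mem s.x_W (s.T_n c hc) k
      rw [Function.iterate_zero_apply, commutatorElement_eq_one_iff_mul_comm.2 (s.central _ hW b hb).symm,
        iterate_one]
    · exact iterate_eq_one_of_le (ht _ (s.comm_fixed hb (iterate_mem s.x_B hc j))) (by omega)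
  | succ i ih =>
    intro j r hle b hb c hc
    have hi := iterate_mem s.x_B hb i
    have hc' : x⁻¹ * c * x ∈ B := by
      have := (mem_normalizer_iff.1 (inv_mem s.x_B) c).1 hc
      rwa [inv_inv] at this
    have hj' := iterate_mem s.x_B hc' j
    have hj1 : T x ((T x)^[j] (x⁻¹ * c * x)) ∈ B := iterate_mem s.x_B hj' 1
    have hw1 : T x ⁅(T x)^[i] b, (T x)^[j] (x⁻¹ * c * x)⁆ ∈ W := iterate_mem s.x_W (s.comm_B _ hi _ hj') 1
    rw [Function.iterate_succ_apply', s.comm_T hi (iterate_mem s.x_B hc j), conj_iterate_inv,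
      s.iterate_mul_W hw1 (W.inv_mem (s.comm_B _ hi _ hj1)),
      s.iterate_inv_W (s.comm_B _ hi _ hj1),
      ← Function.iterate_succ_apply (T x), ih j (r + 1) (by omega) b hb _ hc',
      ← Function.iterate_succ_apply' (T x) j, ih (j + 1) r (by omega) b hb _ hc', inv_one, one_mul]

theorem Setup.a_normalizer {h : G} (hh : h ∈ a) : h ∈ normalizer (W : Set G) :=
  mem_normalizer_fintype fun w hw => by
    show h * w * h⁻¹ ∈ W
    rw [s.conj_a hh (s.W_le hw)]
    exact W.mul_mem (s.a_B h hh w (s.W_le hw)) hw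

/-- The main construction. -/
theorem Setup.exists_big {e : ℕ} (hn : 2 * e + 3 ≤ n) {u : G} (hu : u ∈ B)
    (hTu : (T x)^[n - 1] u ∉ W) :
    ∃ D : Subgroup G, D ≤ S ∧ IsMulCommutative D ∧ Nat.card a * p ^ (e + 1) ≤ Nat.card D := by
  classical
  set C := W ⊓ centralizer (a : Set G) with hC
  have hCW : C ≤ W := inf_le_left
  have hWS : W ≤ S := s.W_le.trans s.B_le
  have haC : ∀ h ∈ a, ∀ w ∈ C, h * w = w * h := fun h hh w hw => mem_centralizer_iff.1 hw.2 h hh
  obtain ⟨t, ht⟩ : ∃ t : ℕ, (a ⊓ C).relIndex C = p ^ t := by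
    obtain ⟨k, hk⟩ := IsPGroup.iff_card.1 (s.pgroup.to_le (hCW.trans hWS))
    obtain ⟨t, -, ht⟩ := (Nat.dvd_prime_pow hp.out).1 (hk ▸ relIndex_dvd_card (a ⊓ C) C)
    exact ⟨t, ht⟩
  by_cases hte : e + 1 ≤ t
  · refine ⟨a ⊔ C, sup_le s.a_le (hCW.trans hWS), ?_, ?_⟩
    · rw [← closure_eq a, ← closure_eq C, ← closure_union]
      refine closure_isMulCommutative ?_
      rintro v (hv | hv) w (hw | hw)
      · exact s.comm_a v hv w hw
      · exact haC v hv w hw
      · exact (haC w hw v hv).symm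
      · exact s.comm_W v (hCW hv) w (hCW hw)
    · refine le_trans ?_ (card_mul_relIndex_le a C)
      rw [ht]
      exact Nat.mul_le_mul_left _ (Nat.pow_le_pow_right hp.out.pos hte)
  push Not at hte
  have hxC : x ∈ normalizer (C : Set G) := by
    refine mem_normalizer_fintype fun w hw => ⟨(mem_normalizer_iff.1 s.x_W w).1 hw.1,
      mem_centralizer_iff.2 fun h hh => ?_⟩
    calc h * (x * w * x⁻¹) = x * (h * w) * x⁻¹ := by
          rw [← mul_assoc, ← mul_assoc, ← s.x_a h hh]; group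
      _ = x * (w * h) * x⁻¹ := by rw [haC h hh w hw]
      _ = x * w * (h * x⁻¹) := by group
      _ = x * w * x⁻¹ * h := by
          rw [show h * x⁻¹ = x⁻¹ * h from ((Commute.inv_left (s.x_a h hh : Commute x h)).eq).symm]; group
  have hTt : ∀ w ∈ C, (T x)^[t + 1] w = 1 := by
    intro w hw
    have hF : x ∈ normalizer ((a ⊓ C : Subgroup G) : Set G) := mem_normalizer_fintype fun v hv => by
      show x * v * x⁻¹ ∈ a ⊓ C
      rwa [s.x_fix hv.1]
    have := iterate_mem_of_index s.pgroup s.x_mem (hCW.trans hWS) hxC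
      (fun v hv w hw => s.comm_W v (hCW hv) w (hCW hw)) t (a ⊓ C) inf_le_right hF (dvd_of_eq ht) w hw
    rw [Function.iterate_succ_apply']
    rw [T, s.x_fix this.1, mul_inv_cancel]
  -- the elements moving `u`
  set Y : Set G := (fun h => ⁅h, u⁆) '' (a : Set G) with hY
  set K := a ⊓ centralizer Y with hK
  have hYW : Y ⊆ W := by rintro _ ⟨h, hh, rfl⟩; exact s.a_B h hh u hu
  have hKC : ∀ h ∈ K, ⁅h, u⁆ ∈ C := by
    refine fun h hh => ⟨s.a_B h hh.1 u hu, mem_centralizer_iff.2 fun k hk => ?_⟩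
    refine commutatorElement_eq_one_iff_mul_comm.1 ?_
    rw [s.symm hh.1 hk hu, commutatorElement_eq_one_iff_mul_comm]
    exact (mem_centralizer_iff.1 hh.2 _ ⟨k, hk, rfl⟩).symm
  set X := closure Y ⊔ C with hX
  have hXW : X ≤ W := sup_le ((closure_le W).2 hYW) hCW
  -- `|a : K| ≤ |X : C|`
  have hinj : K.relIndex a ≤ C.relIndex X := by
    let f : a → X ⧸ C.subgroupOf X := fun h =>
      ((⟨⁅(h : G), u⁆, mem_sup_left (subset_closure ⟨h, h.2, rfl⟩)⟩ : X) : X ⧸ C.subgroupOf X)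
    have hf : ∀ h₁ h₂ : a, f h₁ = f h₂ →
        (h₁ : a ⧸ K.subgroupOf a) = (h₂ : a ⧸ K.subgroupOf a) := by
      intro h₁ h₂ he
      rw [QuotientGroup.eq, mem_subgroupOf] at he ⊢
      refine ⟨((h₁⁻¹ * h₂ : a)).2, mem_centralizer_iff.2 ?_⟩
      rintro _ ⟨k, hk, rfl⟩
      set z := (⁅(h₁ : G), u⁆)⁻¹ * ⁅(h₂ : G), u⁆ with hz
      have hzC : z ∈ C := he
      have hsy : ⁅(h₁ : G), ⁅k, u⁆⁆ = ⁅(h₂ : G), ⁅k, u⁆⁆ := by
        have hz1 := s.W_le (s.a_B _ h₁.2 u hu)
        rw [← s.symm h₁.2 hk hu, ← s.symm h₂.2 hk hu,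
          show ⁅(h₂ : G), u⁆ = ⁅(h₁ : G), u⁆ * z by rw [hz]; group,
          show ⁅k, ⁅(h₁ : G), u⁆ * z⁆ = ⁅k, ⁅(h₁ : G), u⁆⁆ * (⁅(h₁ : G), u⁆ * ⁅k, z⁆ * ⁅(h₁ : G), u⁆⁻¹) by
            simp only [commutatorElement_def]; group,
          commutatorElement_eq_one_iff_mul_comm.2 (haC k hk z hzC)]
        group
      have e : (h₁ : G) * ⁅k, u⁆ * (h₁ : G)⁻¹ = h₂ * ⁅k, u⁆ * (h₂ : G)⁻¹ := by
        have h3 := congrArg (· * ⁅k, u⁆) hsy
        simpa [commutatorElement_def (h₁ : G) ⁅k, u⁆, commutatorElement_def (h₂ : G) ⁅k, u⁆] using h3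
      show ⁅k, u⁆ * ((h₁ : G)⁻¹ * h₂) = (h₁ : G)⁻¹ * h₂ * ⁅k, u⁆
      calc ⁅k, u⁆ * ((h₁ : G)⁻¹ * h₂) = (h₁ : G)⁻¹ * ((h₁ : G) * ⁅k, u⁆ * (h₁ : G)⁻¹) * h₂ := by group
        _ = _ := by rw [e]; group
    refine Nat.card_le_card_of_injective (fun q => f q.out) fun q₁ q₂ he => ?_
    have := hf _ _ he
    rwa [QuotientGroup.out_eq', QuotientGroup.out_eq'] at this
  have hKX : K ⊓ X ≤ a ⊓ C :=
    fun v hv => ⟨hv.1.1, hXW hv.2, mem_centralizer_iff.2 fun h hh => s.comm_a h hh v hv.1.1⟩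
  have hcard0 : Nat.card a * p ^ t ≤ Nat.card (K ⊔ X : Subgroup G) := by
    refine le_trans ?_ (card_mul_relIndex_le K X)
    have hle1 : a ⊓ C ≤ X := inf_le_right.trans le_sup_right
    have h1 := relIndex_mul_relIndex (K ⊓ X) (a ⊓ C) X hKX hle1
    have h2 := relIndex_mul_relIndex (a ⊓ C) C X inf_le_right le_sup_right
    have h3 := relIndex_mul_relIndex (⊥ : Subgroup G) K a bot_le inf_le_left
    rw [relIndex_bot_left, relIndex_bot_left] at h3
    have h4 : (a ⊓ C).relIndex X ≤ (K ⊓ X).relIndex X := by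
      rw [← h1]
      refine Nat.le_mul_of_pos_left _ (Nat.pos_of_ne_zero fun h0 => ?_)
      have := relIndex_dvd_card (K ⊓ X) (a ⊓ C)
      rw [h0, zero_dvd_iff] at this
      exact Nat.card_pos.ne' this
    calc Nat.card a * p ^ t = Nat.card K * (K.relIndex a * (a ⊓ C).relIndex C) := by
          rw [← h3, ht, mul_assoc]
      _ ≤ Nat.card K * (C.relIndex X * (a ⊓ C).relIndex C) :=
          Nat.mul_le_mul_left _ (Nat.mul_le_mul_right _ hinj)
      _ ≤ _ := by
          refine Nat.mul_le_mul_left _ ?_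
          rw [mul_comm, h2]
          exact h4
  -- the chain
  let es : ℕ → Set G := fun m => (fun j => (T x)^[j] u) '' {j : ℕ | n - 1 - m ≤ j ∧ j ≤ n - 1}
  let D : ℕ → Subgroup G := fun m => closure ((K : Set G) ∪ (X : Set G) ∪ es m)
  have hgS : ∀ m, D m ≤ S := fun m => (closure_le S).2 (Set.union_subset
    (Set.union_subset (fun v hv => s.a_le hv.1) (hXW.trans hWS))
    (by rintro _ ⟨j, -, rfl⟩; exact s.B_le (iterate_mem s.x_B hu j)))
  have hcomm : ∀ m, m ≤ e + 1 - t → IsMulCommutative (D m) := by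
    intro m hm
    have hKX' : ∀ v ∈ K, ∀ w ∈ X, v * w = w * v := by
      intro v hv w hw
      suffices hXc : X ≤ centralizer ({v} : Set G) from mem_centralizer_iff.1 (hXc hw) v rfl
      refine sup_le ((closure_le _).2 fun y hy => ?_) fun c hc => ?_
      · refine mem_centralizer_iff.2 fun v' hv' => ?_
        rw [Set.mem_singleton_iff] at hv'
        subst hv'
        exact (mem_centralizer_iff.1 hv.2 y hy).symm
      · refine mem_centralizer_iff.2 fun v' hv' => ?_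
        rw [Set.mem_singleton_iff] at hv'
        subst hv'
        exact haC _ hv.1 c hc
    have hKe : ∀ v ∈ K, ∀ j, t + 1 ≤ j → v * (T x)^[j] u = (T x)^[j] u * v := fun v hv j hj => by
      refine commutatorElement_eq_one_iff_mul_comm.1 ?_
      rw [← s.iterate_comm hv.1 hu]
      exact iterate_eq_one_of_le (hTt _ (hKC v hv)) hj
    have hee : ∀ i j, n - 1 - m ≤ i → n - 1 - m ≤ j → i ≠ j →
        (T x)^[i] u * (T x)^[j] u = (T x)^[j] u * (T x)^[i] u := fun i j hi hj hij =>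
      commutatorElement_eq_one_iff_mul_comm.1 (by
        simpa using s.isotropic hTt i j 0 (by omega) u hu u hu)
    refine closure_isMulCommutative ?_
    rintro v ((hv | hv) | ⟨i, hi, rfl⟩) w ((hw | hw) | ⟨j, hj, rfl⟩)
    · exact s.comm_a v hv.1 w hw.1
    · exact hKX' v hv w hw
    · exact hKe v hv j (by have := hj.1; omega)
    · exact (hKX' w hw v hv).symm
    · exact s.comm_W v (hXW hv) w (hXW hw)
    · exact s.central v (hXW hv) _ (iterate_mem s.x_B hu j)
    · exact (hKe w hw i (by have := hi.1; omega)).symm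
    · exact (s.central w (hXW hw) _ (iterate_mem s.x_B hu i)).symm
    · by_cases hij : i = j
      · rw [hij]
      · exact hee i j hi.1 hj.1 hij
  -- strictness
  let N₀ := a ⊔ B
  have hBN : ∀ r : ℕ, ∀ b ∈ B, ∀ c ∈ B, ∃ w ∈ W, (T x)^[r] (b * c) = w * ((T x)^[r] b * (T x)^[r] c) := by
    intro r
    induction r with
    | zero => exact fun b _ c _ => ⟨1, W.one_mem, by simp⟩
    | succ r ih =>
      intro b hb c hc
      obtain ⟨w, hw, he⟩ := ih b hb c hc
      have hb' := iterate_mem s.x_B hb r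
      have hc' := iterate_mem s.x_B hc r
      have hTb := iterate_mem s.x_B hb' 1
      have hTc : T x ((T x)^[r] c) ∈ B := iterate_mem s.x_B hc' 1
      have e1 : ∀ y z : G, T x (y * z) = T x y * (y * T x z * y⁻¹) := fun y z => by unfold T; group
      refine ⟨T x w * ⁅(T x)^[r + 1] b, ⁅(T x)^[r] b, T x ((T x)^[r] c)⁆⁆ *
        ⁅(T x)^[r] b, T x ((T x)^[r] c)⁆, ?_, ?_⟩
      · exact W.mul_mem (W.mul_mem (iterate_mem s.x_W hw 1)
          (s.comm_B _ (iterate_mem s.x_B hb _) _ (s.W_le (s.comm_B _ hb' _ hTc)))) (s.comm_B _ hb' _ hTc)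
      · rw [Function.iterate_succ_apply', he, e1, e1, Function.iterate_succ_apply' _ _ b,
          Function.iterate_succ_apply' _ _ c]
        set y := (T x)^[r] b
        set z := (T x)^[r] c
        set v := ⁅y, T x z⁆ with hv
        have hvW : v ∈ W := s.comm_B _ hb' _ hTc
        have hmem : T x y * (y * T x z * y⁻¹) ∈ B :=
          B.mul_mem hTb (B.mul_mem (B.mul_mem hb' hTc) (B.inv_mem hb'))
        rw [s.central w hw _ hmem, mul_inv_cancel_right,
          show y * T x z * y⁻¹ = v * T x z by rw [hv, commutatorElement_def]; group,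
          show T x y * (v * T x z) = ⁅T x y, v⁆ * v * (T x y * T x z) by
            simp only [commutatorElement_def]; group]
        group
  let M : ℕ → Subgroup G := fun r =>
    { carrier := {b | b ∈ B ∧ (T x)^[r] b ∈ W}
      mul_mem' := fun {b c} hb hc => ⟨B.mul_mem hb.1 hc.1, by
        obtain ⟨w, hw, he⟩ := hBN r b hb.1 c hc.1
        rw [he]; exact W.mul_mem hw (W.mul_mem hb.2 hc.2)⟩
      one_mem' := ⟨B.one_mem, by rw [iterate_one]; exact W.one_mem⟩
      inv_mem' := fun {b} hb => ⟨B.inv_mem hb.1, by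
        obtain ⟨w, hw, he⟩ := hBN r b hb.1 b⁻¹ (B.inv_mem hb.1)
        rw [mul_inv_cancel, iterate_one] at he
        have : (T x)^[r] b⁻¹ = ((T x)^[r] b)⁻¹ * w⁻¹ := by
          rw [← mul_inv_rev]; exact eq_inv_of_mul_eq_one_right (by rw [mul_assoc]; exact he.symm)
        rw [this]; exact W.mul_mem (W.inv_mem hb.2) (W.inv_mem hw)⟩ }
  have hWM : ∀ r, W ≤ M r := fun r w hw => ⟨s.W_le hw, iterate_mem s.x_W hw r⟩
  have hN₀M : ∀ r, N₀ ≤ normalizer (M r : Set G) := fun r => sup_le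
    (fun h hh => mem_normalizer_fintype fun m hm => by
      show h * m * h⁻¹ ∈ M r
      rw [s.conj_a hh hm.1]
      exact (M r).mul_mem (hWM r (s.a_B h hh m hm.1)) hm)
    (fun b hb => mem_normalizer_fintype fun m hm => by
      show b * m * b⁻¹ ∈ M r
      rw [show b * m * b⁻¹ = ⁅b, m⁆ * m by simp only [commutatorElement_def]; group]
      exact (M r).mul_mem (hWM r (s.comm_B b hb m hm.1)) hm)
  let Qr : ℕ → Subgroup G := fun r =>
    { carrier := {d | d ∈ N₀ ∧ T x d ∈ M r}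
      mul_mem' := fun {d d'} hd hd' => ⟨N₀.mul_mem hd.1 hd'.1, by
        rw [show T x (d * d') = T x d * (d * T x d' * d⁻¹) by unfold T; group]
        exact (M r).mul_mem hd.2 ((mem_normalizer_iff.1 (hN₀M r hd.1) _).1 hd'.2)⟩
      one_mem' := ⟨N₀.one_mem, by rw [T_one]; exact (M r).one_mem⟩
      inv_mem' := fun {d} hd => ⟨N₀.inv_mem hd.1, by
        rw [show T x d⁻¹ = d⁻¹ * (T x d)⁻¹ * d⁻¹⁻¹ by unfold T; group]
        exact (mem_normalizer_iff.1 (hN₀M r (N₀.inv_mem hd.1)) _).1 ((M r).inv_mem hd.2)⟩ }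
  have hstep : ∀ m, m < e + 1 - t → D m < D (m + 1) := by
    intro m hm
    refine lt_of_le_of_ne (closure_mono (Set.union_subset_union_right _
      (Set.image_mono fun j hj => ⟨by have := hj.1; omega, hj.2⟩))) fun heq => ?_
    set j := n - 1 - (m + 1) with hj
    have h1 : (T x)^[j] u ∈ D m := by
      rw [heq]; exact subset_closure (Or.inr ⟨j, ⟨le_rfl, by omega⟩, rfl⟩)
    have h2 : D m ≤ Qr (n - 2 - j) := by
      refine (closure_le _).2 (Set.union_subset (Set.union_subset ?_ ?_) ?_)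
      · intro v hv
        refine ⟨mem_sup_left hv.1, ?_⟩
        rw [T, s.x_fix hv.1, mul_inv_cancel]; exact (M _).one_mem
      · exact fun v hv => ⟨mem_sup_right (s.W_le (hXW hv)), hWM _ (iterate_mem s.x_W (hXW hv) 1)⟩
      · rintro _ ⟨i, hi, rfl⟩
        refine ⟨mem_sup_right (iterate_mem s.x_B hu i), iterate_mem s.x_B (iterate_mem s.x_B hu i) 1, ?_⟩
        rw [← Function.iterate_succ_apply' (T x), ← Function.iterate_add_apply]
        have h4 := hi.1
        obtain ⟨k, hk⟩ := Nat.exists_eq_add_of_le (show n ≤ n - 2 - j + (i + 1) by omega)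
        rw [hk, add_comm, Function.iterate_add_apply]
        exact iterate_mem s.x_W (s.T_n u hu) k
    have h3 := (h2 h1).2.2
    rw [← Function.iterate_succ_apply' (T x), ← Function.iterate_add_apply,
      show n - 2 - j + (j + 1) = n - 1 by omega] at h3
    exact hTu h3
  have hcard : ∀ m, m ≤ e + 1 - t → Nat.card a * p ^ t * p ^ m ≤ Nat.card (D m) := by
    intro m
    induction m with
    | zero =>
      intro _
      rw [pow_zero, mul_one]
      exact hcard0.trans (card_le_of_le (sup_le (fun v hv => subset_closure (Or.inl (Or.inl hv)))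
        fun v hv => subset_closure (Or.inl (Or.inr hv))))
    | succ m ih =>
      intro hm
      have hlt := hstep m (by omega)
      have h1 := relIndex_mul_relIndex (⊥ : Subgroup G) (D m) (D (m + 1)) bot_le hlt.le
      rw [relIndex_bot_left, relIndex_bot_left] at h1
      obtain ⟨k, hk⟩ := IsPGroup.iff_card.1 (s.pgroup.to_le (hgS (m + 1)))
      obtain ⟨i, -, hi⟩ := (Nat.dvd_prime_pow hp.out).1 (hk ▸ relIndex_dvd_card (D m) (D (m + 1)))
      have hi0 : i ≠ 0 := fun h => hlt.not_ge (relIndex_eq_one.1 (by rw [hi, h, pow_zero]))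
      rw [pow_succ, ← mul_assoc, ← h1, hi]
      exact Nat.mul_le_mul (ih (by omega)) (Nat.le_self_pow hi0 p)
  refine ⟨D (e + 1 - t), hgS _, hcomm _ le_rfl, ?_⟩
  have := hcard _ le_rfl
  rwa [mul_assoc, ← pow_add, Nat.add_sub_cancel' (by omega)] at this

end Main

end Cfsg.Agent.Lib.LA5.JOffender
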