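import Mathlib.GroupTheory.QuotientGroup.Basic
import Mathlib.Algebra.Group.Subgroup.Basic
import Mathlib.Algebra.BigOperators.Group.Finset.Basic
import Mathlib.Algebra.CharP.Lemmas
import Mathlib.Data.Int.GCD
import Mathlib.Tactic.Ring
import Mathlib.Tactic.Abel
import Cfsg.Agent.Lib.Frobenius.QuadraticAbelian
import Mathlib.Tactic.Group
import Mathlib.Data.Set.Finite.Lemmas
import Mathlib.RingTheory.Coprime.Lemmas

/-!
# A long Jordan block from an abelian `p'`-group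

Artin's independence argument: if `R` acts commutatively and without fixed points on `V` and the
powers `x ^ i`, `0 < i < n`, act on the image of `R` without fixed points, then `1, x, …, x ^ (n - 1)`
are independent on a minimal `R`-submodule, so `(x - 1) ^ (n - 1) ≠ 0`.
-/

set_option autoImplicit false
set_option linter.unusedSectionVars false

namespace Cfsg.Agent.Lib.LA5.JOffender

variable {V : Type*} [AddCommGroup V] [Finite V] {N : Type*} [Group N]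

theorem map_mul_apply (ρ : N →* AddMonoid.End V) (a b : N) (v : V) : ρ (a * b) v = ρ a (ρ b v) :=
  DFunLike.congr_fun (map_mul ρ a b) v

theorem map_one_apply (ρ : N →* AddMonoid.End V) (v : V) : ρ 1 v = v :=
  DFunLike.congr_fun (map_one ρ) v

theorem exists_minimal_invariant (ρ : N →* AddMonoid.End V) (R : Subgroup N) (h : ∃ v : V, v ≠ 0) :
    ∃ M : AddSubgroup V, (∃ m ∈ M, m ≠ 0) ∧ (∀ r ∈ R, ∀ m ∈ M, ρ r m ∈ M) ∧
      ∀ M' : AddSubgroup V, M' ≤ M → (∀ r ∈ R, ∀ m ∈ M', ρ r m ∈ M') → (∃ m ∈ M', m ≠ 0) → M' = M := by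
  haveI : Finite (AddSubgroup V) := Finite.of_injective _ SetLike.coe_injective
  obtain ⟨M, ⟨h1, h2⟩, hmin⟩ := Set.exists_min_image
    {M : AddSubgroup V | (∃ m ∈ M, m ≠ 0) ∧ ∀ r ∈ R, ∀ m ∈ M, ρ r m ∈ M}
    (fun M => Nat.card M) (Set.toFinite _)
    ⟨⊤, by obtain ⟨v, hv⟩ := h; exact ⟨v, trivial, hv⟩, fun _ _ _ _ => trivial⟩
  exact ⟨M, h1, h2, fun M' hle h3 h4 => AddSubgroup.eq_of_le_of_card_ge hle (hmin M' ⟨h4, h3⟩)⟩

/-- `1, x, …, x ^ (n - 1)` are independent over the centraliser of `R` on `M`. -/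
theorem exists_sum_ne_zero (ρ : N →* AddMonoid.End V) (R : Subgroup N) (x : N)
    (hxR : ∀ r ∈ R, x * r * x⁻¹ ∈ R) (hxR' : ∀ r ∈ R, x⁻¹ * r * x ∈ R) (n : ℕ)
    (hcomm : ∀ r ∈ R, ∀ s ∈ R, ρ r * ρ s = ρ s * ρ r)
    (hfix : ∀ v : V, (∀ r ∈ R, ρ r v = v) → v = 0)
    (hsur : ∀ i, 0 < i → i < n → ∀ r ∈ R, ∃ s ∈ R, ρ r = ρ (x ^ i * s * (x ^ i)⁻¹ * s⁻¹))
    (M : AddSubgroup V) (hM0 : ∃ m ∈ M, m ≠ 0) (hMR : ∀ r ∈ R, ∀ m ∈ M, ρ r m ∈ M)
    (hmin : ∀ M' : AddSubgroup V, M' ≤ M → (∀ r ∈ R, ∀ m ∈ M', ρ r m ∈ M') → (∃ m ∈ M', m ≠ 0) → M' = M) :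
    ∀ (I : Finset ℕ), I ⊆ Finset.range n → I.Nonempty → ∀ c : ℕ → AddMonoid.End V,
      (∀ i ∈ I, (∀ m ∈ M, c i m ∈ M) ∧ (∀ r ∈ R, ∀ m ∈ M, ρ r (c i m) = c i (ρ r m)) ∧
        (∀ m ∈ M, c i m = 0 → m = 0)) →
      ∃ m ∈ M, ∑ i ∈ I, ρ (x ^ i) (c i m) ≠ 0 := by
  classical
  have hpowR : ∀ (i : ℕ) (r : N), r ∈ R → x ^ i * r * (x ^ i)⁻¹ ∈ R ∧ (x ^ i)⁻¹ * r * x ^ i ∈ R := by
    intro i
    induction i with
    | zero => intro r hr; simpa using hr
    | succ i ih =>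
      intro r hr
      refine ⟨?_, ?_⟩
      · have := (ih _ (hxR r hr)).1
        rw [pow_succ]
        simpa [mul_assoc] using this
      · have := (ih _ (hxR' r hr)).2
        rw [pow_succ']
        simpa [mul_assoc] using this
  intro I
  induction I using Finset.strongInduction with
  | _ I ih =>
    intro hI hne c hc
    by_contra hall
    push Not at hall
    obtain ⟨i₀, hi₀, hmin₀⟩ := Finset.exists_min_image I id hne
    by_cases h1 : I = {i₀}
    · subst h1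
      obtain ⟨m, hm, hm0⟩ := hM0
      have h2 := hall m hm
      rw [Finset.sum_singleton] at h2
      have h3 : c i₀ m = 0 := by
        have h4 := congrArg (ρ (x ^ i₀)⁻¹) h2
        rwa [map_zero, ← map_mul_apply, inv_mul_cancel, map_one_apply] at h4
      exact hm0 ((hc i₀ hi₀).2.2 m hm h3)
    obtain ⟨i₁, hi₁, h01⟩ : ∃ i₁ ∈ I, i₀ < i₁ := by
      by_contra hcon
      push Not at hcon
      exact h1 (Finset.eq_singleton_iff_unique_mem.2 ⟨hi₀, fun i hi => le_antisymm (hcon i hi) (hmin₀ i hi)⟩)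
    let ψ : ℕ → N → N := fun i r => (x ^ i)⁻¹ * r * x ^ i
    have hψ : ∀ i r, r ∈ R → ψ i r ∈ R := fun i r hr => (hpowR i r hr).2
    -- some `r` separates `i₀` and `i₁` on `M`
    obtain ⟨r, hr, hrne⟩ : ∃ r ∈ R, ∃ m ∈ M, ρ (ψ i₀ r) m ≠ ρ (ψ i₁ r) m := by
      by_contra hcon
      push Not at hcon
      obtain ⟨d, hd⟩ := Nat.exists_eq_add_of_le h01.le
      have hd0 : 0 < d := by omega
      have hdn : d < n := by have := Finset.mem_range.1 (hI hi₁); omega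
      have htriv : ∀ s ∈ R, ∀ m ∈ M, ρ s m = ρ (x ^ d * s * (x ^ d)⁻¹) m := by
        intro s hs m hm
        have h5 := hcon (x ^ i₁ * s * (x ^ i₁)⁻¹) (hpowR i₁ s hs).1 m hm
        have e1 : ψ i₁ (x ^ i₁ * s * (x ^ i₁)⁻¹) = s := by simp [ψ, mul_assoc]
        have e2 : ψ i₀ (x ^ i₁ * s * (x ^ i₁)⁻¹) = x ^ d * s * (x ^ d)⁻¹ := by
          simp only [ψ, hd, pow_add]; group
        rw [e1, e2] at h5
        exact h5.symm
      obtain ⟨m, hm, hm0⟩ := hM0
      refine hm0 (hfix m fun r hr => ?_)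
      obtain ⟨s, hs, hse⟩ := hsur d hd0 hdn r hr
      rw [hse, map_mul_apply, ← htriv s hs _ (hMR _ (R.inv_mem hs) m hm), ← map_mul_apply,
        mul_inv_cancel, map_one_apply]
    let d : ℕ → AddMonoid.End V := fun i => ρ (ψ i₀ r) - ρ (ψ i r)
    have hd : ∀ i m, d i m = ρ (ψ i₀ r) m - ρ (ψ i r) m := fun i m => rfl
    have hdR : ∀ i, ∀ s ∈ R, ∀ v, ρ s (d i v) = d i (ρ s v) := by
      intro i s hs v
      rw [hd, hd, map_sub]
      have e1 := DFunLike.congr_fun (hcomm s hs _ (hψ i₀ r hr)) v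
      have e2 := DFunLike.congr_fun (hcomm s hs _ (hψ i r hr)) v
      exact congrArg₂ (· - ·) e1 e2
    let I' := I.filter fun i => ∃ m ∈ M, d i m ≠ 0
    have hI'ss : I' ⊂ I := Finset.filter_ssubset.2 ⟨i₀, hi₀, by simp [hd]⟩
    have hI'ne : I'.Nonempty := ⟨i₁, Finset.mem_filter.2 ⟨hi₁, by
      obtain ⟨m, hm, hne'⟩ := hrne
      exact ⟨m, hm, by rw [hd]; exact sub_ne_zero.2 hne'⟩⟩⟩
    have hinj : ∀ i ∈ I', ∀ m ∈ M, d i m = 0 → m = 0 := by
      intro i hi m hm h0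
      by_contra hm0
      obtain ⟨m', hm', hne'⟩ := (Finset.mem_filter.1 hi).2
      have hK : AddMonoidHom.ker (d i) ⊓ M = M := hmin _ inf_le_right
        (fun s hs v hv => ⟨show d i (ρ s v) = 0 by
            rw [← hdR i s hs, show d i v = 0 from hv.1, map_zero], hMR s hs v hv.2⟩)
        ⟨m, ⟨h0, hm⟩, hm0⟩
      exact hne' ((hK.ge hm').1)
    obtain ⟨m, hm, hne'⟩ := ih I' hI'ss ((Finset.filter_subset _ _).trans hI) hI'ne (fun i => c i * d i)
      (fun i hi => by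
        have hiI := (Finset.mem_filter.1 hi).1
        have hdM : ∀ v ∈ M, d i v ∈ M := fun v hv => by
          rw [hd]; exact M.sub_mem (hMR _ (hψ i₀ r hr) v hv) (hMR _ (hψ i r hr) v hv)
        refine ⟨fun v hv => (hc i hiI).1 _ (hdM v hv), fun s hs v hv => ?_, fun v hv h0 => ?_⟩
        · show ρ s (c i (d i v)) = c i (d i (ρ s v))
          rw [(hc i hiI).2.1 s hs _ (hdM v hv), hdR i s hs]
        · exact hinj i hi v hv ((hc i hiI).2.2 _ (hdM v hv) h0))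
    apply hne'
    have hzero : ∑ i ∈ I', ρ (x ^ i) ((c i * d i) m) = ∑ i ∈ I, ρ (x ^ i) (c i (d i m)) := by
      refine Finset.sum_subset (Finset.filter_subset _ _) fun i hi hni => ?_
      have : d i m = 0 := by
        by_contra h
        exact hni (Finset.mem_filter.2 ⟨hi, m, hm, h⟩)
      show ρ (x ^ i) (c i (d i m)) = 0
      rw [this, map_zero, map_zero]
    rw [hzero]
    have h6 : ∀ i ∈ I, ρ (x ^ i) (c i (d i m)) =
        ρ (x ^ i) (c i (ρ (ψ i₀ r) m)) - ρ r (ρ (x ^ i) (c i m)) := by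
      intro i hi
      rw [hd, map_sub, map_sub]
      congr 1
      rw [← (hc i hi).2.1 _ (hψ i r hr) m hm, ← map_mul_apply, ← map_mul_apply,
        show x ^ i * ψ i r = r * x ^ i by simp only [ψ]; group]
    rw [Finset.sum_congr rfl h6, Finset.sum_sub_distrib, hall _ (hMR _ (hψ i₀ r hr) m hm), ← map_sum,
      hall m hm, map_zero, sub_zero]

/-- `(x - 1) ^ (n - 1)` is nonzero. -/
theorem exists_iterate_ne_zero {p : ℕ} [hp : Fact p.Prime] (ρ : N →* AddMonoid.End V) (R : Subgroup N) (x : N)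
    (hxR : ∀ r ∈ R, x * r * x⁻¹ ∈ R) (hxR' : ∀ r ∈ R, x⁻¹ * r * x ∈ R) (n : ℕ) (hn : 0 < n)
    (hcomm : ∀ r ∈ R, ∀ s ∈ R, ρ r * ρ s = ρ s * ρ r)
    (hfix : ∀ v : V, (∀ r ∈ R, ρ r v = v) → v = 0)
    (hsur : ∀ i, 0 < i → i < n → ∀ r ∈ R, ∃ s ∈ R, ρ r = ρ (x ^ i * s * (x ^ i)⁻¹ * s⁻¹))
    (hV : ∃ v : V, v ≠ 0) (hexp : ∀ v : V, p • v = 0) :
    ∃ v : V, ((ρ x - 1) ^ (n - 1) : AddMonoid.End V) v ≠ 0 := by
  classical
  obtain ⟨M, hM0, hMR, hmin⟩ := exists_minimal_invariant ρ R hV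
  let z : ℕ → ℤ := fun i => (-1) ^ (n - 1 - i) * ((n - 1).choose i : ℕ)
  let I := (Finset.range n).filter fun i => ¬ (p : ℤ) ∣ z i
  have hIne : I.Nonempty := ⟨n - 1, Finset.mem_filter.2 ⟨Finset.mem_range.2 (by omega), by
    simp only [z, Nat.sub_self, pow_zero, Nat.choose_self, one_mul, Nat.cast_one]
    intro h
    exact hp.out.not_dvd_one (Int.natCast_dvd_natCast.1 (by simpa using h))⟩⟩
  obtain ⟨m, hm, hne⟩ := exists_sum_ne_zero ρ R x hxR hxR' n hcomm hfix hsur M hM0 hMR hmin I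
    (Finset.filter_subset _ _) hIne (fun i => (z i : AddMonoid.End V)) (fun i hi => by
      refine ⟨fun v hv => ?_, fun r _ v _ => ?_, fun v _ h0 => ?_⟩
      · show z i • v ∈ M
        exact M.zsmul_mem hv _
      · show ρ r (z i • v) = z i • ρ r v
        exact map_zsmul _ _ _
      · have h0' : z i • v = 0 := h0
        have hcop : IsCoprime (p : ℤ) (z i) :=
          (Prime.coprime_iff_not_dvd (Nat.prime_iff_prime_int.1 hp.out)).2 (Finset.mem_filter.1 hi).2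
        obtain ⟨a, b, hab⟩ := hcop
        calc v = (a * p + b * z i) • v := by rw [hab, one_zsmul]
          _ = 0 := by rw [add_zsmul, mul_smul, mul_smul, h0', natCast_zsmul, hexp]; simp)
  refine ⟨m, ?_⟩
  suffices h : ((ρ x - 1) ^ (n - 1) : AddMonoid.End V) m = ∑ i ∈ I, ρ (x ^ i) ((z i : AddMonoid.End V) m) by
    rw [h]; exact hne
  have hexp' : ((ρ x - 1) ^ (n - 1) : AddMonoid.End V) =
      ∑ i ∈ Finset.range n, ρ (x ^ i) * (z i : AddMonoid.End V) := by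
    rw [sub_eq_add_neg, ((Commute.one_right (ρ x)).neg_right).add_pow, Nat.sub_add_cancel hn]
    refine Finset.sum_congr rfl fun i _ => ?_
    simp only [z, map_pow, Int.cast_mul, Int.cast_pow, Int.cast_neg, Int.cast_one, Int.cast_natCast, mul_assoc]
  rw [hexp']
  refine (AddMonoidHom.finsetSum_apply _ _ m).trans ?_
  refine (Finset.sum_subset (Finset.filter_subset _ _) fun i hi hni => ?_).symm
  simp only [I, Finset.mem_filter, hi, true_and, not_not] at hni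
  obtain ⟨k, hk⟩ := hni
  show ρ (x ^ i) (z i • m) = 0
  rw [hk, mul_zsmul, natCast_zsmul, hexp, map_zero]

/-- In exponent `p`, `(x - 1) ^ (p ^ e) = x ^ (p ^ e) - 1`. -/
theorem sub_one_pow_eq_zero {p : ℕ} [hp : Fact p.Prime] (hp2 : p ≠ 2) (ρ : N →* AddMonoid.End V) (x : N) (e : ℕ)
    (hexp : ∀ v : V, p • v = 0) (hx : ρ (x ^ p ^ e) = 1) :
    ((ρ x - 1) ^ (p ^ e) : AddMonoid.End V) = 0 := by
  obtain ⟨r, hr⟩ := ((Commute.one_right (ρ x)).neg_right).exists_add_pow_prime_pow_eq hp.out e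
  have hp0 : (p : AddMonoid.End V) = 0 := by
    refine AddMonoidHom.ext fun v => ?_
    show p • v = 0
    exact hexp v
  rw [sub_eq_add_neg, hr, hp0, ← map_pow, hx, ((hp.out.odd_of_ne_two hp2).pow).neg_one_pow]
  simp

end Cfsg.Agent.Lib.LA5.JOffender
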