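import Cfsg.Agent.Lib.LA5.JOffender.Gain
import Cfsg.Agent.Lib.LA5.JOffender.Indep
import Cfsg.Agent.Lib.CharP.Basic
import Cfsg.Agent.Lib.PGroups.Frattini
import Cfsg.Agent.Lib.Balance.OddInvariant

/-!
# An abelian subgroup of largest order lies in `O_p`

If `A` is abelian, `A = A₀⟨x⟩`, and an abelian `p'`-group `R̂ / Q` is centralised by `A₀` and moved
without fixed points by the nontrivial powers of `x` modulo `A₀`, then `A` is not of largest order.
-/

set_option autoImplicit false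
set_option linter.unusedSectionVars false

namespace Cfsg.Agent.Lib.LA5.JOffender

open Subgroup
open scoped commutatorElement

universe u

variable {G : Type u} [Group G] [Finite G] {p : ℕ} [hp : Fact p.Prime]

theorem le_normalizer_closure {s : Set G} {g : G} (h : ∀ y ∈ s, g * y * g⁻¹ ∈ closure s) :
    g ∈ normalizer (closure s : Set G) := by
  refine mem_normalizer_fintype fun y hy => ?_
  have : closure s ≤ (closure s).comap (MulAut.conj g).toMonoidHom := (closure_le _).2 fun y hy => h y hy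
  exact this hy

theorem le_mul_pow (hp5 : 5 ≤ p) : ∀ e : ℕ, 1 ≤ e → 2 * e + 3 ≤ p ^ e
  | 1, _ => by simpa using hp5
  | e + 2, _ => by
    have := le_mul_pow hp5 (e + 1) (by omega)
    have h1 : p ^ (e + 1) * 5 ≤ p ^ (e + 2) := by rw [pow_succ _ (e + 1)]; exact Nat.mul_le_mul_left _ hp5
    omega

/-- A `p`-group acting on a nontrivial section fixes some element outside. -/
theorem exists_fixed_mod {S B W P₀ : Subgroup G} (hS : IsPGroup p S) (hB : B ≤ S) (hP : P₀ ≤ S)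
    (hPB : P₀ ≤ normalizer (B : Set G)) (hne : ¬ B ≤ W) :
    ∃ b ∈ B, b ∉ W ∧ ∀ h ∈ P₀, ⁅h, b⁆ ∈ W := by
  classical
  obtain ⟨N, hN⟩ := (Subgroup.isNilpotent_iff_lowerCentralSeries S).1 hS.isNilpotent
  have hex : ∃ k, S.lowerCentralSeries k ⊓ B ≤ W := ⟨N, by rw [hN, bot_inf_eq]; exact bot_le⟩
  have h0 : Nat.find hex ≠ 0 := fun h => hne (by
    have := Nat.find_spec hex
    rw [h, Subgroup.lowerCentralSeries_zero] at this
    exact fun b hb => this ⟨hB hb, hb⟩)
  obtain ⟨k, hk⟩ := Nat.exists_eq_succ_of_ne_zero h0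
  have h1 := Nat.find_min hex (hk ▸ Nat.lt_succ_self k : k < Nat.find hex)
  obtain ⟨b, hb, hbW⟩ := SetLike.not_le_iff_exists.1 h1
  refine ⟨b, hb.2, hbW, fun h hh => ?_⟩
  have h2 := Nat.find_spec hex
  rw [hk] at h2
  refine h2 ⟨?_, ?_⟩
  · rw [Subgroup.lowerCentralSeries_succ, Subgroup.commutator_comm]
    exact commutator_mem_commutator (hP hh) hb.1
  · rw [commutatorElement_def]
    exact B.mul_mem ((mem_normalizer_iff.1 (hPB hh) b).1 hb.2) (B.inv_mem hb.2)

/-- The action of `N` on the section `B / W`. -/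
theorem exists_section_rep {B W : Subgroup G} {N : Subgroup G} (hBN : B ≤ N) (hWB : W ≤ B)
    (hNB : N ≤ normalizer (B : Set G)) (hNW : N ≤ normalizer (W : Set G))
    (hexp : ∀ b ∈ B, b ^ p ∈ W) (hcomm : ∀ b ∈ B, ∀ c ∈ B, ⁅b, c⁆ ∈ W) :
    ∃ (V : Type u) (_ : AddCommGroup V) (_ : Finite V) (ρ : N →* AddMonoid.End V) (cl : B → V),
      Function.Surjective cl ∧ (∀ b, cl b = 0 ↔ (b : G) ∈ W) ∧
      (∀ b c : B, cl b = cl c ↔ (b : G) * (c : G)⁻¹ ∈ W) ∧
      (∀ b c : B, cl (b * c) = cl b + cl c) ∧ (∀ v : V, p • v = 0) ∧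
      ∀ (n : N) (b c : B), (c : G) = (n : G) * b * (n : G)⁻¹ → ρ n (cl b) = cl c := by
  classical
  have hWn : (W.subgroupOf B).Normal :=
    normal_subgroupOf_of_le_normalizer fun b hb => hNW (hBN hb)
  have hqc : ∀ a b : B ⧸ W.subgroupOf B, a * b = b * a := by
    intro a b
    obtain ⟨b, rfl⟩ := QuotientGroup.mk'_surjective _ b
    obtain ⟨a, rfl⟩ := QuotientGroup.mk'_surjective _ a
    rw [← map_mul, ← map_mul, QuotientGroup.mk'_apply, QuotientGroup.mk'_apply, QuotientGroup.eq,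
      mem_subgroupOf]
    have e : (((a * b)⁻¹ * (b * a) : B) : G) = ⁅((b : G))⁻¹, (a : G)⁻¹⁆ := by
      simp [commutatorElement_def, mul_assoc]
    rw [e]
    exact hcomm _ (B.inv_mem b.2) _ (B.inv_mem a.2)
  letI : CommGroup (B ⧸ W.subgroupOf B) :=
    { (inferInstance : Group (B ⧸ W.subgroupOf B)) with mul_comm := hqc }
  let conj : N → (B →* B) := fun n =>
    { toFun := fun b => ⟨(n : G) * b * (n : G)⁻¹, (mem_normalizer_iff.1 (hNB n.2) _).1 b.2⟩
      map_one' := Subtype.ext (by simp)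
      map_mul' := fun b c => Subtype.ext (by simp [mul_assoc]) }
  have hW : ∀ n : N, W.subgroupOf B ≤ (W.subgroupOf B).comap (conj n) := fun n b hb =>
    mem_subgroupOf.2 ((mem_normalizer_iff.1 (hNW n.2) _).1 (mem_subgroupOf.1 hb))
  let act : N → (B ⧸ W.subgroupOf B →* B ⧸ W.subgroupOf B) := fun n => QuotientGroup.map _ _ (conj n) (hW n)
  have hact : ∀ n (b : B), act n (b : B ⧸ W.subgroupOf B) = ((conj n b : B) : B ⧸ W.subgroupOf B) :=
    fun n b => rfl
  let ρ : N →* AddMonoid.End (Additive (B ⧸ W.subgroupOf B)) :=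
    { toFun := fun n => MonoidHom.toAdditive (act n)
      map_one' := by
        refine AddMonoidHom.ext fun v => ?_
        show Additive.ofMul (act 1 v.toMul) = v
        obtain ⟨b, hb⟩ := QuotientGroup.mk_surjective v.toMul
        rw [← hb, hact, show conj 1 b = b from Subtype.ext (by simp [conj]), hb]
        rfl
      map_mul' := fun m n => by
        refine AddMonoidHom.ext fun v => ?_
        show Additive.ofMul (act (m * n) v.toMul) = Additive.ofMul (act m (act n v.toMul))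
        obtain ⟨b, hb⟩ := QuotientGroup.mk_surjective v.toMul
        rw [← hb, hact, hact, hact]
        exact congrArg (fun z : B => Additive.ofMul (z : B ⧸ W.subgroupOf B))
          (Subtype.ext (by simp [conj, mul_assoc])) }
  refine ⟨Additive (B ⧸ W.subgroupOf B), inferInstance, inferInstance, ρ,
    fun b => Additive.ofMul (b : B ⧸ W.subgroupOf B), ?_, ?_, ?_, ?_, ?_, ?_⟩
  · intro v
    obtain ⟨b, hb⟩ := QuotientGroup.mk_surjective v.toMul
    exact ⟨b, by simp [hb]⟩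
  · intro b
    exact (QuotientGroup.eq_one_iff b).trans mem_subgroupOf
  · intro b c
    show (b : B ⧸ W.subgroupOf B) = c ↔ _
    rw [← mul_inv_eq_one, ← QuotientGroup.mk_inv, ← QuotientGroup.mk_mul, QuotientGroup.eq_one_iff,
      mem_subgroupOf]
    rfl
  · intro b c; rfl
  · intro v
    obtain ⟨b, hb⟩ := QuotientGroup.mk_surjective v.toMul
    show Additive.ofMul (v.toMul ^ p) = Additive.ofMul 1
    rw [← hb, ← QuotientGroup.mk_pow, (QuotientGroup.eq_one_iff _).2 (mem_subgroupOf.2 (hexp b b.2))]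
  · intro n b c hc
    show Additive.ofMul (act n (b : B ⧸ W.subgroupOf B)) = _
    rw [hact]
    exact congrArg (fun z : B => Additive.ofMul (z : B ⧸ W.subgroupOf B)) (Subtype.ext hc.symm)

/-- The contradiction. -/
theorem false_of_offender (hp5 : 5 ≤ p) {Q : Subgroup G} [hQn : Q.Normal] (hCQ : centralizer (Q : Set G) ≤ Q)
    {S : Subgroup G} (hS : IsPGroup p S) (hQS : Q ≤ S) {A A₀ R : Subgroup G} {x : G} {e : ℕ}
    (hAS : A ≤ S) (hAc : ∀ a ∈ A, ∀ b ∈ A, a * b = b * a)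
    (hmax : ∀ D : Subgroup G, D ≤ S → IsMulCommutative D → Nat.card D ≤ Nat.card A)
    (hA₀ : A₀ ≤ A) (hxA : x ∈ A) (he : 1 ≤ e) (hxn : x ^ p ^ e ∈ A₀)
    (hcard : Nat.card A ≤ Nat.card A₀ * p ^ e)
    (hQR : Q ≤ R) (hRQ : R ≠ Q) (hR : (Q.relIndex R).Coprime p)
    (hRc : ∀ r ∈ R, ∀ s ∈ R, ⁅r, s⁆ ∈ Q) (hAR : ∀ a ∈ A₀, ∀ r ∈ R, ⁅a, r⁆ ∈ Q)
    (hxR : x ∈ normalizer (R : Set G))
    (hsur : ∀ i, 0 < i → i < p ^ e → ∀ r ∈ R, ∃ s ∈ R, r⁻¹ * ⁅x ^ i, s⁆ ∈ Q) : False := by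
  classical
  let P₀ := Q ⊔ A₀
  let N := P₀ ⊔ R ⊔ zpowers x
  have hP₀S : P₀ ≤ S := sup_le hQS (hA₀.trans hAS)
  have hQN : ∀ g : G, g ∈ normalizer (Q : Set G) := fun g => by
    rw [normalizer_eq_top_iff.2 hQn]; trivial
  have hA₀R : A₀ ≤ normalizer (R : Set G) := fun a ha => mem_normalizer_fintype fun r hr => by
    show a * r * a⁻¹ ∈ R
    rw [show a * r * a⁻¹ = ⁅a, r⁆ * r by rw [commutatorElement_def]; group]
    exact R.mul_mem (hQR (hAR a ha r hr)) hr
  have hNR : N ≤ normalizer (R : Set G) :=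
    sup_le (sup_le (sup_le (hQR.trans le_normalizer) hA₀R) le_normalizer) (zpowers_le.2 hxR)
  have hRP₀ : R ≤ normalizer (P₀ : Set G) := fun r hr => mem_normalizer_fintype fun y hy => by
    have : P₀ ≤ P₀.comap (MulAut.conj r).toMonoidHom := sup_le
      (fun q hq => mem_sup_left ((mem_normalizer_iff.1 (hQN r) q).1 hq))
      (fun a ha => by
        show r * a * r⁻¹ ∈ P₀
        rw [show r * a * r⁻¹ = ⁅r, a⁆ * a by rw [commutatorElement_def]; group,
          ← commutatorElement_inv a r]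
        exact P₀.mul_mem (mem_sup_left (Q.inv_mem (hAR a ha r hr))) (mem_sup_right ha))
    exact this hy
  have hxP₀ : x ∈ normalizer (P₀ : Set G) := mem_normalizer_fintype fun y hy => by
    have : P₀ ≤ P₀.comap (MulAut.conj x).toMonoidHom := sup_le
      (fun q hq => mem_sup_left ((mem_normalizer_iff.1 (hQN x) q).1 hq))
      (fun a ha => by
        show x * a * x⁻¹ ∈ P₀
        rw [hAc x hxA a (hA₀ ha), mul_inv_cancel_right]
        exact mem_sup_right ha)
    exact this hy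
  -- the `p'`-elements of `R`
  let L := closure {r : G | r ∈ R ∧ (orderOf r).Coprime p}
  have hLR : L ≤ R := (closure_le _).2 fun r hr => hr.1
  have hNL : N ≤ normalizer (L : Set G) := fun g hg => le_normalizer_closure fun r hr =>
    subset_closure ⟨(mem_normalizer_iff.1 (hNR hg) r).1 hr.1, by
      have : orderOf (g * r * g⁻¹) = orderOf r :=
        orderOf_injective (MulAut.conj g).toMonoidHom (MulAut.conj g).injective r
      rw [this]; exact hr.2⟩
  have hRL : R ≤ Q ⊔ L := by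
    intro r hr
    obtain ⟨j, hj⟩ := CharP.exists_pow_coprime (p := p) r
    have h1 : r ^ p ^ j ∈ Q ⊔ L := mem_sup_right (subset_closure ⟨R.pow_mem hr _, hj⟩)
    haveI : (Q.subgroupOf R).Normal := inferInstance
    have hcop : ((Q.subgroupOf R).index).Coprime (p ^ j) := Nat.Coprime.pow_right j hR
    let z : R ⧸ Q.subgroupOf R := ((⟨r, hr⟩ : R) : R ⧸ Q.subgroupOf R)
    obtain ⟨m, hm⟩ := exists_pow_eq_self_of_coprime (x := z) (n := p ^ j)
      ((hcop.coprime_dvd_left (by rw [index]; exact orderOf_dvd_natCard z)).symm)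
    have h2 : (r ^ p ^ j) ^ m * r⁻¹ ∈ Q := by
      have h3 : (((⟨r, hr⟩ : R) ^ p ^ j) ^ m * (⟨r, hr⟩ : R)⁻¹ : R) ∈ Q.subgroupOf R := by
        rw [← QuotientGroup.eq_one_iff]
        simp only [QuotientGroup.mk_mul, QuotientGroup.mk_pow, QuotientGroup.mk_inv]
        show (z ^ p ^ j) ^ m * z⁻¹ = 1
        rw [hm, mul_inv_cancel]
      simpa [mem_subgroupOf] using h3
    have h4 := (Q ⊔ L).mul_mem ((Q ⊔ L).inv_mem (mem_sup_left h2)) ((Q ⊔ L).pow_mem h1 m)
    simpa [mul_assoc] using h4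
  have hQcent : ¬ L ≤ centralizer (Q : Set G) := fun h => hRQ (le_antisymm
    (hRL.trans (sup_le le_rfl (h.trans hCQ))) hQR)
  -- a minimal `N`-invariant subgroup of `Q` moved by `L`
  obtain ⟨B, ⟨hBQ, hNB, hBL⟩, hBmin⟩ := Set.exists_min_image
    {Y : Subgroup G | Y ≤ Q ∧ N ≤ normalizer (Y : Set G) ∧ ¬ L ≤ centralizer (Y : Set G)}
    (fun Y => Nat.card Y) (Set.toFinite _) ⟨Q, le_rfl, fun g _ => hQN g, hQcent⟩
  let W := B ⊓ centralizer (L : Set G)
  have hBp : IsPGroup p B := hS.to_le (hBQ.trans hQS)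
  have hNC : N ≤ normalizer ((centralizer (L : Set G) : Subgroup G) : Set G) := fun g hg =>
    mem_normalizer_fintype fun c hc => mem_centralizer_iff.2 fun l hl => by
      have h1 := mem_centralizer_iff.1 hc (g⁻¹ * l * g)
        ((mem_normalizer_iff''.1 (hNL hg) l).1 hl)
      calc l * (g * c * g⁻¹) = g * ((g⁻¹ * l * g) * c) * g⁻¹ := by group
        _ = g * (c * (g⁻¹ * l * g)) * g⁻¹ := by rw [h1]
        _ = g * c * g⁻¹ * l := by group
  have hNW : N ≤ normalizer (W : Set G) := fun g hg => mem_normalizer_fintype fun w hw =>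
    ⟨(mem_normalizer_iff.1 (hNB hg) w).1 hw.1, (mem_normalizer_iff.1 (hNC hg) w).1 hw.2⟩
  have hWB : W ≤ B := inf_le_left
  have hBW : ¬ B ≤ W := fun h => hBL (le_centralizer_iff.1 (h.trans inf_le_right))
  have hkey : ∀ Y : Subgroup G, Y ≤ B → N ≤ normalizer (Y : Set G) → Y ≠ B → Y ≤ W := by
    intro Y hYB hNY hne
    refine le_inf hYB (le_centralizer_iff.1 ?_)
    by_contra h
    exact hne (eq_of_le_of_card_ge hYB (hBmin Y ⟨hYB.trans hBQ, hNY, h⟩))
  have hBN : B ≤ N := hBQ.trans (le_sup_left.trans (le_sup_left.trans le_sup_left))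
  have hBB : ∀ b ∈ B, ∀ c ∈ B, ⁅b, c⁆ ∈ W ∧ b ^ p ∈ W := by
    have hΦ : (frattini B).map B.subtype ≤ W := by
      refine hkey _ (map_subtype_le _) (fun g hg => ?_) fun h => ?_
      · exact (Balance.le_normalizer_map_characteristic (frattini B)) (hNB hg)
      · haveI : Nontrivial B := (nontrivial_iff_ne_bot _).2 fun h0 => hBW (h0 ▸ bot_le)
        have h1 : frattini B = ⊤ := map_injective B.subtype_injective
          (h.trans (by rw [← MonoidHom.range_eq_map, range_subtype]))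
        exact bot_ne_top (frattini_nongenerating (K := (⊥ : Subgroup B)) (by rw [h1]; simp))
    exact fun b hb c hc => ⟨hΦ ⟨_, PGroups.commutatorElement_mem_frattini hBp ⟨b, hb⟩ ⟨c, hc⟩, rfl⟩,
      hΦ ⟨_, PGroups.pow_mem_frattini hBp ⟨b, hb⟩, rfl⟩⟩
  have hBL' : ⁅B, L⁆ = B := by
    have hle : ⁅B, L⁆ ≤ B := commutator_le.2 fun b hb l hl => by
      rw [commutatorElement_def, mul_assoc, mul_assoc, ← mul_assoc l]
      exact B.mul_mem hb ((mem_normalizer_iff.1 (hNB (mem_sup_left (mem_sup_right (hLR hl)))) _).1 (B.inv_mem hb))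
    by_contra hne
    have hW' : ⁅B, L⁆ ≤ W := hkey _ hle (fun g hg => mem_normalizer_fintype fun y hy => by
      have : ⁅B, L⁆ ≤ (⁅B, L⁆ : Subgroup G).comap (MulAut.conj g).toMonoidHom :=
        commutator_le.2 fun b hb l hl => by
          show g * ⁅b, l⁆ * g⁻¹ ∈ (⁅B, L⁆ : Subgroup G)
          rw [conjugate_commutatorElement]
          exact commutator_mem_commutator ((mem_normalizer_iff.1 (hNB hg) b).1 hb)
            ((mem_normalizer_iff.1 (hNL hg) l).1 hl)
      exact this hy) hne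
    refine hBL ((closure_le _).2 fun l hl => mem_centralizer_iff.2 fun b hb => ?_)
    exact (CharP.commute_of_comm_mem (hBp.to_le hWB) hl.2
      (fun w hw => mem_centralizer_iff.1 hw.2 l (subset_closure hl))
      (hW' (commutator_mem_commutator (B.inv_mem hb) (subset_closure hl)))).symm.eq
  have hWc : ∀ w ∈ W, ∀ b ∈ B, w * b = b * w := by
    have h1 : ⁅⁅B, L⁆, W⁆ = ⊥ := by
      refine commutator_commutator_eq_bot_of_rotate ?_ ?_
      · rw [commutator_eq_bot_iff_le_centralizer.2 (show L ≤ centralizer (W : Set G) from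
          le_centralizer_iff.1 inf_le_right), commutator_bot_left]
      · refine commutator_eq_bot_iff_le_centralizer.2 ?_
        refine (commutator_le.2 fun w hw b hb => ?_).trans (inf_le_right : W ≤ _)
        rw [commutatorElement_def, mul_assoc, mul_assoc, ← mul_assoc b]
        exact W.mul_mem hw ((mem_normalizer_iff.1 (hNW (hBN hb)) _).1 (W.inv_mem hw))
    rw [hBL', commutator_eq_bot_iff_le_centralizer] at h1
    exact fun w hw b hb => mem_centralizer_iff.1 (h1 hb) w hw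
  -- `P₀` acts trivially on `B / W`
  have hP₀B : P₀ ≤ normalizer (B : Set G) := (le_sup_left.trans le_sup_left).trans hNB
  have hP₀W : P₀ ≤ normalizer (W : Set G) := (le_sup_left.trans le_sup_left).trans hNW
  let U : Subgroup G :=
    { carrier := {b | b ∈ B ∧ ∀ h ∈ P₀, ⁅h, b⁆ ∈ W}
      mul_mem' := fun {b c} hb hc => ⟨B.mul_mem hb.1 hc.1, fun h hh => by
        rw [show ⁅h, b * c⁆ = ⁅h, b⁆ * (b * ⁅h, c⁆ * b⁻¹) by simp only [commutatorElement_def]; group]
        exact W.mul_mem (hb.2 h hh) ((mem_normalizer_iff.1 (hNW (hBN hb.1)) _).1 (hc.2 h hh))⟩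
      one_mem' := ⟨B.one_mem, fun h _ => by simp⟩
      inv_mem' := fun {b} hb => ⟨B.inv_mem hb.1, fun h hh => by
        rw [show ⁅h, b⁻¹⁆ = b⁻¹ * (⁅h, b⁆)⁻¹ * b⁻¹⁻¹ by simp only [commutatorElement_def]; group]
        exact (mem_normalizer_iff.1 (hNW (hBN (B.inv_mem hb.1))) _).1 (W.inv_mem (hb.2 h hh))⟩ }
  have hNP₀ : N ≤ normalizer (P₀ : Set G) :=
    sup_le (sup_le le_normalizer hRP₀) (zpowers_le.2 hxP₀)
  have hUB : U = B := by
    by_contra hne
    obtain ⟨b, hb, hbW, hbU⟩ := exists_fixed_mod (P₀ := P₀) hS (hBQ.trans hQS) hP₀S hP₀B hBW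
    refine hbW (hkey U (fun y hy => hy.1) (fun g hg => mem_normalizer_fintype fun y hy => ?_) hne ⟨hb, hbU⟩)
    refine ⟨(mem_normalizer_iff.1 (hNB hg) y).1 hy.1, fun h hh => ?_⟩
    have h2 := (mem_normalizer_iff.1 (hNW hg) _).1 (hy.2 _ ((mem_normalizer_iff''.1 (hNP₀ hg) h).1 hh))
    rw [conjugate_commutatorElement] at h2
    simpa [mul_assoc] using h2
  have htriv : ∀ h ∈ P₀, ∀ b ∈ B, ⁅h, b⁆ ∈ W := fun h hh b hb => (hUB.ge hb).2 h hh
  -- the module
  obtain ⟨V, iV, fV, ρ, cl, hcl, hcl0, hcleq, hclmul, hVp, hρ⟩ :=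
    exists_section_rep (p := p) hBN hWB hNB hNW (fun b hb => (hBB b hb b hb).2) fun b hb c hc => (hBB b hb c hc).1
  have hρ1 : ∀ (n : N), (n : G) ∈ P₀ → ρ n = 1 := by
    intro n hn
    refine AddMonoidHom.ext fun v => ?_
    obtain ⟨b, rfl⟩ := hcl v
    refine (hρ n b ⟨_, (mem_normalizer_iff.1 (hNB n.2) _).1 b.2⟩ rfl).trans ?_
    refine (hcleq _ _).2 ?_
    exact htriv n hn b b.2
  have hρeq : ∀ m n : N, (m : G)⁻¹ * n ∈ P₀ → ρ m = ρ n := by
    intro m n h
    have h1 := hρ1 (m⁻¹ * n) h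
    calc ρ m = ρ m * ρ (m⁻¹ * n) := by rw [h1, mul_one]
      _ = ρ n := by rw [← map_mul, mul_inv_cancel_left]
  let RN := R.subgroupOf N
  have hRN : R ≤ N := le_sup_right.trans le_sup_left
  have hxN : x ∈ N := mem_sup_right (mem_zpowers x)
  let xN : N := ⟨x, hxN⟩
  have hfix : ∀ v : V, (∀ r ∈ RN, ρ r v = v) → v = 0 := by
    intro v hv
    obtain ⟨b, rfl⟩ := hcl v
    rw [hcl0]
    let F : Subgroup G :=
      { carrier := {c | c ∈ B ∧ ∀ l ∈ L, ⁅l, c⁆ ∈ W}
        mul_mem' := fun {b c} hb hc => ⟨B.mul_mem hb.1 hc.1, fun l hl => by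
          rw [show ⁅l, b * c⁆ = ⁅l, b⁆ * (b * ⁅l, c⁆ * b⁻¹) by simp only [commutatorElement_def]; group]
          exact W.mul_mem (hb.2 l hl) ((mem_normalizer_iff.1 (hNW (hBN hb.1)) _).1 (hc.2 l hl))⟩
        one_mem' := ⟨B.one_mem, fun l _ => by simp⟩
        inv_mem' := fun {b} hb => ⟨B.inv_mem hb.1, fun l hl => by
          rw [show ⁅l, b⁻¹⁆ = b⁻¹ * (⁅l, b⁆)⁻¹ * b⁻¹⁻¹ by simp only [commutatorElement_def]; group]
          exact (mem_normalizer_iff.1 (hNW (hBN (B.inv_mem hb.1))) _).1 (W.inv_mem (hb.2 l hl))⟩ }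
    have hbF : (b : G) ∈ F := by
      refine ⟨b.2, fun l hl => ?_⟩
      have h1 := hv ⟨l, hRN (hLR hl)⟩ (mem_subgroupOf.2 (hLR hl))
      rw [hρ _ b ⟨_, (mem_normalizer_iff.1 (hNB (hRN (hLR hl))) _).1 b.2⟩ rfl, hcleq] at h1
      exact h1
    by_contra hbW
    have hFB : F = B := by
      by_contra hne
      refine hbW (hkey F (fun y hy => hy.1) (fun g hg => mem_normalizer_fintype fun y hy => ?_) hne hbF)
      refine ⟨(mem_normalizer_iff.1 (hNB hg) y).1 hy.1, fun l hl => ?_⟩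
      have h2 := (mem_normalizer_iff.1 (hNW hg) _).1 (hy.2 _ ((mem_normalizer_iff''.1 (hNL hg) l).1 hl))
      rw [conjugate_commutatorElement] at h2
      simpa [mul_assoc] using h2
    apply hBW
    rw [← hBL']
    refine commutator_le.2 fun c hc l hl => ?_
    rw [← commutatorElement_inv]
    exact W.inv_mem ((hFB.ge hc).2 l hl)
  have hV : ∃ v : V, v ≠ 0 := by
    obtain ⟨b, hb, hbW⟩ := SetLike.not_le_iff_exists.1 hBW
    exact ⟨cl ⟨b, hb⟩, fun h => hbW ((hcl0 _).1 h)⟩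
  have hne' : ∀ r ∈ RN, ∀ s ∈ RN, ρ r * ρ s = ρ s * ρ r := by
    intro r hr s hs
    rw [← map_mul, ← map_mul]
    refine hρeq _ _ (mem_sup_left ?_)
    have e : ((r * s : N) : G)⁻¹ * (s * r : N) = ⁅(s : G)⁻¹, (r : G)⁻¹⁆ := by
      simp [commutatorElement_def, mul_assoc]
    rw [e]
    exact hRc _ (R.inv_mem hs) _ (R.inv_mem hr)
  obtain ⟨v, hv⟩ := exists_iterate_ne_zero (p := p) ρ RN xN
    (fun r hr => mem_subgroupOf.2 ((mem_normalizer_iff.1 hxR _).1 hr))
    (fun r hr => mem_subgroupOf.2 ((mem_normalizer_iff''.1 hxR _).1 hr))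
    (p ^ e) (pow_pos hp.out.pos e) hne' hfix
    (fun i hi hin r hr => by
      obtain ⟨s, hs, hsq⟩ := hsur i hi hin r hr
      refine ⟨⟨s, hRN hs⟩, mem_subgroupOf.2 hs, hρeq _ _ (mem_sup_left ?_)⟩
      have e : (r : G)⁻¹ * ((xN ^ i * ⟨s, hRN hs⟩ * (xN ^ i)⁻¹ * (⟨s, hRN hs⟩ : N)⁻¹ : N) : G) =
          (r : G)⁻¹ * ⁅x ^ i, s⁆ := by
        simp [xN, commutatorElement_def]
      rw [e]
      exact hsq)
    hV hVp
  have hT : ∀ (k : ℕ) (b : B), ∃ hk : (T x)^[k] (b : G) ∈ B,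
      cl ⟨_, hk⟩ = ((ρ xN - 1) ^ k : AddMonoid.End V) (cl b) := by
    intro k
    induction k with
    | zero => exact fun b => ⟨b.2, by simp⟩
    | succ k ih =>
      intro b
      obtain ⟨hk, he⟩ := ih b
      have hk1 : T x ((T x)^[k] (b : G)) ∈ B := iterate_mem (hNB hxN) hk 1
      refine ⟨by rw [Function.iterate_succ_apply']; exact hk1, ?_⟩
      rw [pow_succ']
      show _ = (ρ xN - 1) (((ρ xN - 1) ^ k : AddMonoid.End V) (cl b))
      rw [← he]
      show _ = ρ xN (cl ⟨_, hk⟩) - cl ⟨_, hk⟩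
      rw [hρ xN ⟨_, hk⟩ ⟨_, (mem_normalizer_iff.1 (hNB hxN) _).1 hk⟩ rfl, eq_sub_iff_add_eq, ← hclmul]
      refine congrArg cl (Subtype.ext ?_)
      simp [Function.iterate_succ_apply', T]
  have hxn1 : ρ (xN ^ p ^ e) = 1 := hρ1 _ (by simpa [xN] using mem_sup_right (S := Q) hxn)
  have hp2 : p ≠ 2 := by omega
  have s : Setup p S B W A₀ x (p ^ e) :=
    { pgroup := hS
      B_le := hBQ.trans hQS
      a_le := hA₀.trans hAS
      x_mem := hAS hxA
      W_le := hWB
      central := hWc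
      comm_B := fun b hb c hc => (hBB b hb c hc).1
      comm_a := fun h hh k hk => hAc h (hA₀ hh) k (hA₀ hk)
      x_a := fun h hh => hAc x hxA h (hA₀ hh)
      a_B := fun h hh b hb => htriv h (mem_sup_right hh) b hb
      x_B := hNB hxN
      x_W := hNW hxN
      T_n := fun b hb => by
        obtain ⟨hk, he'⟩ := hT (p ^ e) ⟨b, hb⟩
        rw [sub_one_pow_eq_zero hp2 ρ xN e hVp hxn1] at he'
        exact (hcl0 _).1 he' }
  obtain ⟨b, rfl⟩ := hcl v
  obtain ⟨D, hDS, hDc, hDcard⟩ := s.exists_big (le_mul_pow hp5 e he) b.2 (fun hmem => hv (by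
    obtain ⟨hk, he'⟩ := hT (p ^ e - 1) b
    rw [← he']
    exact (hcl0 _).2 hmem))
  have h1 := hmax D hDS hDc
  have h2 : Nat.card A₀ * p ^ e < Nat.card A₀ * p ^ (e + 1) :=
    Nat.mul_lt_mul_of_pos_left (Nat.pow_lt_pow_succ hp.out.one_lt) Nat.card_pos
  omega

end Cfsg.Agent.Lib.LA5.JOffender
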